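import Cfsg.Agent.H514.K547.Parity
import Cfsg.Agent.H514.K547.Core
import Cfsg.Agent.H716.K4B0.OddIdx

/-!
# S4547, [E]: good characters and normal subgroups of odd index (helper932)

* `three_le_classes`, `five_le_classes` : conjugacy classes of groups of odd order;
* `fg_congr`, `fg_eq_of_sup`;
* `odd_index` : `5 ≤ fg N → 5 ≤ fg G` for `N` normal of odd index.
-/

set_option autoImplicit false

namespace Cfsg.Agent.H932.K547

universe u

section Cls

variable {X : Type u} [Group X]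

theorem not_conj_inv (hodd : ¬ 2 ∣ Nat.card X) {x : X} (hx : x ≠ 1) : ¬ IsConj x x⁻¹ := by
  intro h
  obtain ⟨c, hc⟩ := isConj_iff.1 h
  have hodd' : Odd (Nat.card X) := Nat.not_even_iff_odd.1 fun h => hodd h.two_dvd
  -- the square of `c` commutes with `x`
  have h1 : c ^ 2 * x = x * c ^ 2 := by
    have h2 : c * x = x⁻¹ * c := by rw [← hc]; group
    have h3 : c * x⁻¹ = x * c := by
      have : c * x⁻¹ * c⁻¹ = x := by
        have h4 : (c * x * c⁻¹)⁻¹ = c * x⁻¹ * c⁻¹ := by group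
        rw [← h4, hc, inv_inv]
      rw [← mul_inv_eq_iff_eq_mul]
      exact this
    calc c ^ 2 * x = c * (c * x) := by rw [sq, mul_assoc]
      _ = c * x⁻¹ * c := by rw [h2, mul_assoc]
      _ = x * c ^ 2 := by rw [h3, sq, mul_assoc]
  obtain ⟨k, hk⟩ := hodd'
  have h2 : c = (c ^ 2) ^ (k + 1) := by
    rw [← pow_mul]
    have : 2 * (k + 1) = Nat.card X + 1 := by omega
    rw [this, pow_succ, pow_card_eq_one', one_mul]
  have h3 : Commute c x := by
    rw [h2]
    exact Commute.pow_left h1 _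
  have h4 : x = x⁻¹ := by
    rw [← hc, h3.eq, mul_inv_cancel_right]
  have h5 : x ^ 2 = 1 := by
    rw [sq]
    nth_rewrite 2 [h4]
    exact mul_inv_cancel x
  apply hx
  have h6 : x ^ Nat.card X = 1 := pow_card_eq_one'
  rwa [hk, pow_succ, pow_mul, h5, one_pow, one_mul] at h6

theorem three_le_classes [Finite X] (hodd : ¬ 2 ∣ Nat.card X) (h1 : 1 < Nat.card X) : 3 ≤ Nat.card (ConjClasses X) := by
  classical
  have : Nontrivial X := Finite.one_lt_card_iff_nontrivial.1 h1
  obtain ⟨x, hx⟩ := exists_ne (1 : X)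
  have hx' : x⁻¹ ≠ 1 := inv_ne_one.2 hx
  have e1 : ConjClasses.mk (1 : X) ≠ ConjClasses.mk x := fun h =>
    hx (isConj_one_right.1 (ConjClasses.mk_eq_mk_iff_isConj.1 h))
  have e2 : ConjClasses.mk (1 : X) ≠ ConjClasses.mk x⁻¹ := fun h =>
    hx' (isConj_one_right.1 (ConjClasses.mk_eq_mk_iff_isConj.1 h))
  have e3 : ConjClasses.mk x ≠ ConjClasses.mk x⁻¹ := fun h =>
    not_conj_inv hodd hx (ConjClasses.mk_eq_mk_iff_isConj.1 h)
  have : Finite (ConjClasses X) := Quotient.finite _
  have h2 : ({ConjClasses.mk (1 : X), ConjClasses.mk x, ConjClasses.mk x⁻¹} : Finset (ConjClasses X)).card = 3 := by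
    rw [Finset.card_insert_of_notMem, Finset.card_insert_of_notMem, Finset.card_singleton]
    · rw [Finset.mem_singleton]; exact e3
    · rw [Finset.mem_insert, Finset.mem_singleton]; exact fun h => h.elim e1 e2
  have := Fintype.ofFinite (ConjClasses X)
  rw [← h2, Nat.card_eq_fintype_card]
  exact Finset.card_le_univ _

theorem carrier_le [Finite X] (hodd : ¬ 2 ∣ Nat.card X) {x : X} (hx : x ≠ 1) :
    3 * Nat.card (ConjClasses.mk x).carrier ≤ Nat.card X := by
  classical
  have := Fintype.ofFinite X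
  have h1 := ConjClasses.card_carrier x
  rw [← Nat.card_eq_fintype_card, ← Nat.card_eq_fintype_card, ← Nat.card_eq_fintype_card] at h1
  have hs : Nat.card (MulAction.stabilizer (ConjAct X) x) ∣ Nat.card X := by
    have := Subgroup.card_subgroup_dvd_card (MulAction.stabilizer (ConjAct X) x)
    exact this
  have h3 : 3 ≤ Nat.card (MulAction.stabilizer (ConjAct X) x) := by
    have h4 : 1 < Nat.card (MulAction.stabilizer (ConjAct X) x) := by
      rw [Finite.one_lt_card_iff_nontrivial]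
      refine ⟨⟨⟨ConjAct.toConjAct x, ?_⟩, 1, fun h => hx ?_⟩⟩
      · rw [MulAction.mem_stabilizer_iff, ConjAct.smul_def]
        simp
      · have := congrArg Subtype.val h
        exact this
    have h5 : Nat.card (MulAction.stabilizer (ConjAct X) x) ≠ 2 := fun h => hodd (h ▸ hs)
    omega
  rw [h1]
  have h4 : Nat.card X / Nat.card (MulAction.stabilizer (ConjAct X) x) ≤ Nat.card X / 3 :=
    Nat.div_le_div_left h3 (by norm_num)
  omega

theorem five_le_classes [Finite X] (hodd : ¬ 2 ∣ Nat.card X) (h3 : 3 < Nat.card X) : 5 ≤ Nat.card (ConjClasses X) := by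
  classical
  have : Nontrivial X := Finite.one_lt_card_iff_nontrivial.1 (by omega)
  obtain ⟨x, hx⟩ := exists_ne (1 : X)
  have hx' : x⁻¹ ≠ 1 := inv_ne_one.2 hx
  have hmk : ∀ a b : X, ConjClasses.mk a = ConjClasses.mk b ↔ IsConj a b := fun a b =>
    ConjClasses.mk_eq_mk_iff_isConj
  have hone : ∀ {a : X}, a ≠ 1 → ConjClasses.mk (1 : X) ≠ ConjClasses.mk a := fun ha h =>
    ha (isConj_one_right.1 ((hmk _ _).1 h))
  have hinv : ∀ {a b : X}, IsConj a b → IsConj a⁻¹ b⁻¹ := by
    intro a b h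
    obtain ⟨c, hc⟩ := isConj_iff.1 h
    exact isConj_iff.2 ⟨c, by rw [← hc]; group⟩
  obtain ⟨y, hy1, hyx, hyx'⟩ : ∃ y : X, y ≠ 1 ∧ ¬ IsConj x y ∧ ¬ IsConj x⁻¹ y := by
    by_contra hcon
    push Not at hcon
    have h1 : (Set.univ : Set X) ⊆ ({1} ∪ (ConjClasses.mk x).carrier) ∪ (ConjClasses.mk x⁻¹).carrier := by
      intro y _
      by_cases h1 : y = 1
      · exact Or.inl (Or.inl h1)
      by_cases h2 : IsConj x y
      · exact Or.inl (Or.inr (ConjClasses.mem_carrier_iff_mk_eq.2 ((hmk _ _).2 h2.symm)))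
      · exact Or.inr (ConjClasses.mem_carrier_iff_mk_eq.2 ((hmk _ _).2 (hcon y h1 h2).symm))
    have h2 := Set.ncard_le_ncard h1 (Set.toFinite _)
    rw [Set.ncard_univ] at h2
    have h4 := Set.ncard_union_le (({1} : Set X) ∪ (ConjClasses.mk x).carrier) (ConjClasses.mk x⁻¹).carrier
    have h5 := Set.ncard_union_le ({1} : Set X) (ConjClasses.mk x).carrier
    rw [Set.ncard_singleton] at h5
    have h6 := carrier_le hodd hx
    have h7 := carrier_le hodd hx'
    rw [Nat.card_coe_set_eq] at h6 h7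
    omega
  have hy' : y⁻¹ ≠ 1 := inv_ne_one.2 hy1
  have e1 := hone hx
  have e2 := hone hx'
  have e3 := hone hy1
  have e4 := hone hy'
  have e5 : ConjClasses.mk x ≠ ConjClasses.mk x⁻¹ := fun h => not_conj_inv hodd hx ((hmk _ _).1 h)
  have e6 : ConjClasses.mk x ≠ ConjClasses.mk y := fun h => hyx ((hmk _ _).1 h)
  have e7 : ConjClasses.mk x ≠ ConjClasses.mk y⁻¹ := fun h => hyx' (by
    have := hinv ((hmk _ _).1 h)
    rwa [inv_inv] at this)
  have e8 : ConjClasses.mk x⁻¹ ≠ ConjClasses.mk y := fun h => hyx' ((hmk _ _).1 h)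
  have e9 : ConjClasses.mk x⁻¹ ≠ ConjClasses.mk y⁻¹ := fun h => hyx (by
    have := hinv ((hmk _ _).1 h)
    rwa [inv_inv, inv_inv] at this)
  have e10 : ConjClasses.mk y ≠ ConjClasses.mk y⁻¹ := fun h => not_conj_inv hodd hy1 ((hmk _ _).1 h)
  have : Finite (ConjClasses X) := Quotient.finite _
  have h2 : ({ConjClasses.mk (1 : X), ConjClasses.mk x, ConjClasses.mk x⁻¹, ConjClasses.mk y,
      ConjClasses.mk y⁻¹} : Finset (ConjClasses X)).card = 5 := by
    rw [Finset.card_insert_of_notMem, Finset.card_insert_of_notMem, Finset.card_insert_of_notMem,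
      Finset.card_insert_of_notMem, Finset.card_singleton]
    · rw [Finset.mem_singleton]; exact e10
    · simp only [Finset.mem_insert, Finset.mem_singleton, not_or]; exact ⟨e8, e9⟩
    · simp only [Finset.mem_insert, Finset.mem_singleton, not_or]; exact ⟨e5, e6, e7⟩
    · simp only [Finset.mem_insert, Finset.mem_singleton, not_or]; exact ⟨e1, e2, e3, e4⟩
  have := Fintype.ofFinite (ConjClasses X)
  rw [← h2, Nat.card_eq_fintype_card]
  exact Finset.card_le_univ _

end Cls

open Cfsg Subgroup Cfsg.Agent.Characters.Core Cfsg.Agent.H601.K4 Cfsg.Agent.H821.K547 Cfsg.Agent.H514.K547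

theorem fg_congr {S T : Type u} [Group S] [Group T] [Finite S] (e : T ≃* S) : fg S = fg T := by
  unfold fg
  have hT : Finite T := Finite.of_equiv S e.symm.toEquiv
  refine Set.ncard_congr' (Equiv.ofBijective (fun χ : gs S => (⟨fun t => (χ : S → ℂ) (e t), H740.K4.good_comp e χ.2⟩ : gs T))
    ⟨?_, ?_⟩)
  · intro χ χ' h
    apply Subtype.ext
    funext s
    have := congrFun (congrArg Subtype.val h) (e.symm s)
    simpa using this
  · rintro ⟨χ, hχ⟩
    refine ⟨⟨fun s => χ (e.symm s), H740.K4.good_comp e.symm hχ⟩, Subtype.ext (funext fun t => ?_)⟩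
    show χ (e.symm (e t)) = χ t
    rw [e.symm_apply_apply]

variable {G : Type u} [Group G] [Finite G]

theorem fg_eq_of_sup (P : Sylow 2 G) (N : Subgroup G) [N.Normal] (hidx : ¬ 2 ∣ N.index)
    (hsup : N ⊔ centralizer ((P : Subgroup G) : Set G) = ⊤) : fg G = fg N := by
  have h := gs_restrict P N hidx hsup
  unfold fg
  rw [← h.image_eq, h.injOn.ncard_image]

/-- the case of a subgroup containing `C_G(P)` -/
theorem odd_index_of_centralizer (P : Sylow 2 G) (K : Subgroup G) [K.Normal] (hodd : ¬ 2 ∣ K.index)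
    (hPK : (P : Subgroup G) ≤ K) (hC : centralizer ((P : Subgroup G) : Set G) ≤ K) (h5 : 5 ≤ fg K) : 5 ≤ fg G := by
  classical
  have := Fintype.ofFinite G
  have := Fintype.ofFinite K
  have hcard : Nat.card (G ⧸ K) = K.index := (index_eq_card K).symm
  by_cases hK : K = ⊤
  · subst hK
    rwa [fg_congr (topEquiv (G := G)).symm] at h5
  have h1 : 1 < Nat.card (G ⧸ K) := by
    have h0 : 0 < Nat.card (G ⧸ K) := Nat.card_pos
    have h2 : K.index ≠ 1 := fun h => hK (index_eq_one.1 h)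
    omega
  have hodd' : ¬ 2 ∣ Nat.card (G ⧸ K) := by rwa [hcard]
  -- the characters of the quotient
  let I : Set (G → ℂ) := Set.range fun ψ : IrrCharacter (G ⧸ K) => fun g : G => (ψ : G ⧸ K → ℂ) (g : G ⧸ K)
  have hinj : Function.Injective fun ψ : IrrCharacter (G ⧸ K) => fun g : G => (ψ : G ⧸ K → ℂ) (g : G ⧸ K) := by
    intro ψ ψ' h
    apply Subtype.ext
    funext q
    obtain ⟨g, rfl⟩ := QuotientGroup.mk_surjective q
    exact congrFun h g
  have hI : I ⊆ gs G := by
    rintro _ ⟨ψ, rfl⟩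
    exact good_of_quotient P K hPK hC ψ.2
  have hIcard : I.ncard = Nat.card (ConjClasses (G ⧸ K)) := by
    rw [← card_irr (G := G ⧸ K), ← Nat.card_coe_set_eq]
    exact (Nat.card_congr (Equiv.ofInjective _ hinj)).symm
  by_cases h3 : 3 < Nat.card (G ⧸ K)
  · have h4 := five_le_classes hodd' h3
    rw [← hIcard] at h4
    exact h4.trans (Set.ncard_le_ncard hI (gs_finite G))
  -- index three
  have h3' : Nat.card (G ⧸ K) = 3 := by omega
  have hI3 : 3 ≤ I.ncard := by
    rw [hIcard]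
    exact three_le_classes hodd' h1
  -- the restriction of a member of `I` to `K` is a multiple of the trivial character
  have hIres : ∀ χ ∈ I, ∀ θ : K → ℂ, IsIrrCharacter K θ → θ ≠ 1 → classInner (fun n : K => χ n) θ = 0 := by
    rintro _ ⟨ψ, rfl⟩ θ hθ hne
    have h2 : (fun n : K => (ψ : G ⧸ K → ℂ) ((n : G) : G ⧸ K)) = (ψ : G ⧸ K → ℂ) 1 • (1 : K → ℂ) := by
      funext n
      have h4 : ((n : G) : G ⧸ K) = 1 := (QuotientGroup.eq_one_iff _).2 n.2
      rw [h4, Pi.smul_apply, Pi.one_apply, smul_eq_mul, mul_one]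
    rw [h2, classInner_smul_left, classInner_irr_ne isIrr_one hθ (Ne.symm hne), mul_zero]
  -- a good character over every good character
  have hover : ∀ θ ∈ gs K, θ ≠ 1 → ∃ χ ∈ gs G \ I, classInner (fun n : K => χ n) θ ≠ 0 := by
    intro θ hθ hne
    obtain ⟨χ, hχ, -, m, hm, hc⟩ := exists_good_over K hodd hθ 1 ⟨0, 1, fun x => by simp⟩ (fun h hh => hh)
      (fun h => rfl)
    have hc' : classInner (fun n : K => χ n) θ ≠ 0 := by
      rw [hc]
      intro h0
      have h4 : m = 0 := by exact_mod_cast h0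
      rw [h4] at hm
      exact absurd hm (by decide)
    exact ⟨χ, ⟨hχ, fun h => hc' (hIres χ h θ hθ.odd.1 hne)⟩, hc'⟩
  -- there are two orbits
  obtain ⟨θ₀, h0, h01⟩ : ∃ θ₀ ∈ gs K, θ₀ ≠ 1 := by
    by_contra hcon
    push Not at hcon
    have h4 : fg K ≤ 1 := by
      unfold fg
      exact (Set.ncard_le_ncard (t := {1}) (fun θ hθ => hcon θ hθ) (Set.toFinite _)).trans (Set.ncard_singleton _).le
    omega
  obtain ⟨θ₁, h1', h11, h12⟩ : ∃ θ₁ ∈ gs K, θ₁ ≠ 1 ∧ ∀ g : G, θ₁ ≠ θ₀ ∘ (MulAut.conjNormal g : MulAut K) := by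
    by_contra hcon
    push Not at hcon
    have hsub : gs K ⊆ {1} ∪ Set.range (fun q : G ⧸ K => θ₀ ∘ (MulAut.conjNormal q.out : MulAut K)) := by
      intro θ hθ
      by_cases hne : θ = 1
      · exact Or.inl hne
      · right
        obtain ⟨g, hg⟩ := hcon θ hθ hne
        refine ⟨(g : G ⧸ K), ?_⟩
        obtain ⟨n, hn⟩ := QuotientGroup.mk_out_eq_mul K g
        show θ₀ ∘ (MulAut.conjNormal (Quotient.out (g : G ⧸ K)) : MulAut K) = θ
        have h5 : Quotient.out (g : G ⧸ K) = g * n := hn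
        rw [h5, CharactersDeep.CliffordSum.comp_conjNormal_mul, ← hg]
        funext x
        show θ (MulAut.conjNormal (n : G) x) = θ x
        have h6 : (MulAut.conjNormal (n : G) : MulAut K) x = n * x * n⁻¹ := by
          apply Subtype.ext
          rw [MulAut.conjNormal_apply]
          rfl
        rw [h6]
        exact isIrr_isClassFunction hθ.odd.1 x n
    have h7 := Set.ncard_le_ncard hsub (Set.toFinite _)
    have h8 := Set.ncard_union_le ({1} : Set (K → ℂ))
      (Set.range (fun q : G ⧸ K => θ₀ ∘ (MulAut.conjNormal q.out : MulAut K)))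
    rw [Set.ncard_singleton] at h8
    have h6 : (Set.range (fun q : G ⧸ K => θ₀ ∘ (MulAut.conjNormal q.out : MulAut K))).ncard ≤
        Nat.card (G ⧸ K) := by
      rw [← Nat.card_coe_set_eq]
      exact Finite.card_range_le _
    unfold fg at h5
    omega
  obtain ⟨χ₀, hχ₀, hc₀⟩ := hover θ₀ h0 h01
  obtain ⟨χ₁, hχ₁, hc₁⟩ := hover θ₁ h1' h11
  have hne : χ₀ ≠ χ₁ := by
    rintro rfl
    obtain ⟨g, hg⟩ := Characters.Clifford.exists_conj_of_constituents K hχ₀.1.odd.1 h0.odd.1 h1'.odd.1 hc₀ hc₁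
    exact h12 g hg
  have h9 : 2 ≤ (gs G \ I).ncard := by
    have h10 : ({χ₀, χ₁} : Set (G → ℂ)) ⊆ gs G \ I := by
      rintro χ (rfl | rfl)
      · exact hχ₀
      · exact hχ₁
    have h11 := Set.ncard_le_ncard h10 ((gs_finite G).sdiff)
    rwa [Set.ncard_pair hne] at h11
  have h12' := Set.ncard_sdiff_add_ncard_of_subset hI (gs_finite G)
  unfold fg
  omega

/-- **[E]** : good characters of a normal subgroup of odd index -/
theorem odd_index (N : Subgroup G) [N.Normal] (h : ¬ 2 ∣ N.index) (h5 : 5 ≤ fg N) : 5 ≤ fg G := by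
  obtain ⟨P⟩ : Nonempty (Sylow 2 G) := inferInstance
  have hPN : (P : Subgroup G) ≤ N := by
    intro x hx
    obtain ⟨k, hk⟩ := (IsPGroup.iff_orderOf.1 P.isPGroup') ⟨x, hx⟩
    rw [Subgroup.orderOf_mk] at hk
    have h1 : orderOf (QuotientGroup.mk' N x) ∣ 2 ^ k := hk ▸ orderOf_map_dvd (QuotientGroup.mk' N) x
    have h2 : orderOf (QuotientGroup.mk' N x) ∣ N.index := by
      rw [index_eq_card]
      exact orderOf_dvd_natCard _
    have h3 : orderOf (QuotientGroup.mk' N x) = 1 :=
      Nat.eq_one_of_dvd_coprimes (((Nat.Prime.coprime_iff_not_dvd Nat.prime_two).2 h).pow_left k) h1 h2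
    exact (QuotientGroup.eq_one_iff x).1 (orderOf_eq_one_iff.1 h3)
  have hnorm : (N ⊔ centralizer ((P : Subgroup G) : Set G)).Normal := H716.K4B0.normal_sup N P hPN
  set L : Subgroup G := N ⊔ centralizer ((P : Subgroup G) : Set G) with hL
  have hNL : N ≤ L := le_sup_left
  have hPL : (P : Subgroup G) ≤ L := hPN.trans hNL
  have hoddL : ¬ 2 ∣ L.index := fun h' => h (h'.trans (index_dvd_of_le hNL))
  refine odd_index_of_centralizer P L hoddL hPL le_sup_right ?_
  have h6 : fg L = fg (N.subgroupOf L) := by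
    refine fg_eq_of_sup (P.subtype hPL) (N.subgroupOf L) ?_ ?_
    · intro h'
      apply h
      have h2 : (N.subgroupOf L).index = N.relIndex L := rfl
      rw [h2] at h'
      rw [← relIndex_mul_index hNL]
      exact h'.mul_right _
    · rw [eq_top_iff]
      rintro ⟨x, hx⟩ -
      have hx' := hx
      rw [hL, ← SetLike.mem_coe, Subgroup.normal_mul] at hx'
      obtain ⟨n, hn, c, hc, rfl⟩ := Set.mem_mul.1 hx'
      have hcL : c ∈ L := mem_sup_right hc
      have h3 : (⟨n * c, hx⟩ : L) = ⟨n, hNL hn⟩ * ⟨c, hcL⟩ := rfl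
      rw [h3]
      refine mul_mem (mem_sup_left (mem_subgroupOf.2 hn)) (mem_sup_right ?_)
      rw [mem_centralizer_iff]
      intro z hz
      apply Subtype.ext
      exact mem_centralizer_iff.1 hc z (Subgroup.mem_subgroupOf.1 hz)
  rw [h6, ← fg_congr (subgroupOfEquivOfLe hNL)]
  exact h5

end Cfsg.Agent.H932.K547
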